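import Cfsg.Agent.LieClassical.SLGen
set_option linter.all false

/-!
# `SL_{n+1}(K)` is generated by a root subgroup and a monomial `(n+1)`-cycle (helper135)
-/

set_option autoImplicit false

namespace Cfsg.Agent.H135.SLCyc

open Matrix
open scoped Fin.NatCast Fin.CommRing

section General

variable {ι F : Type*} [Fintype ι] [DecidableEq ι] [Field F]

theorem coe_tv {i j : ι} (h : i ≠ j) (s : F) :
    (Matrix.SpecialLinearGroup.transvection h s : Matrix ι ι F) = 1 + single i j s := rfl

/-- Conjugation by a monomial matrix. -/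
theorem conj_of_mono {M : Matrix.SpecialLinearGroup ι F} {σ : Equiv.Perm ι} {c : ι → F}
    (hM : ∀ a b, (M : Matrix ι ι F) a b = if a = σ b then c b else 0) (hc : ∀ a, c a ≠ 0)
    {i j : ι} (hij : i ≠ j) (s : F) :
    M * Matrix.SpecialLinearGroup.transvection hij s * M⁻¹ =
      Matrix.SpecialLinearGroup.transvection (σ.injective.ne hij) (c i * s * (c j)⁻¹) := by
  rw [mul_inv_eq_iff_eq_mul]
  apply Subtype.ext
  rw [Matrix.SpecialLinearGroup.coe_mul, Matrix.SpecialLinearGroup.coe_mul, coe_tv,
    coe_tv, mul_add, add_mul, mul_one, one_mul]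
  congr 1
  ext a b
  rw [Matrix.mul_apply, Matrix.mul_apply, Finset.sum_eq_single i, Finset.sum_eq_single (σ j)]
  · rw [hM, hM, single_apply, single_apply]
    by_cases h1 : a = σ i
    · subst h1
      by_cases h2 : j = b
      · subst h2
        simp [hc]
      · have h3 : σ j ≠ σ b := fun h => h2 (σ.injective h)
        simp [h2, h3]
    · have h3 : ¬ (σ i = a ∧ σ j = σ j) := fun h => h1 h.1.symm
      rw [if_neg h1, if_neg h3, zero_mul, zero_mul]
  · intro k _ hk
    rw [single_apply, if_neg (fun h => hk h.2.symm), zero_mul]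
  · intro h
    exact absurd (Finset.mem_univ _) h
  · intro k _ hk
    rw [single_apply, if_neg (fun h => hk h.1.symm), mul_zero]
  · intro h
    exact absurd (Finset.mem_univ _) h

end General

variable {K : Type*} [Field K] {n : ℕ}

/-- the monomial cycle as a function -/
theorem w_apply (w : Matrix.SpecialLinearGroup (Fin (n + 1)) K)
    (hw : (w : Matrix (Fin (n + 1)) (Fin (n + 1)) K) =
      Matrix.of (fun i j => if j.val = i.val + 1 then 1 else if i.val = n ∧ j.val = 0 then (-1) ^ n else 0))
    (a b : Fin (n + 1)) : (w : Matrix (Fin (n + 1)) (Fin (n + 1)) K) a b =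
      if a = (Equiv.subRight (1 : Fin (n + 1))) b then (if b = 0 then (-1) ^ n else 1) else 0 := by
  rw [hw, Matrix.of_apply]
  have key : a = (Equiv.subRight (1 : Fin (n + 1))) b ↔ (b.val = a.val + 1 ∨ (a.val = n ∧ b.val = 0)) := by
    rw [Equiv.subRight_apply, eq_sub_iff_add_eq]
    rw [Fin.ext_iff, Fin.val_add_one]
    have ha := a.2
    have hb := b.2
    by_cases h : a = Fin.last n
    · rw [if_pos h]
      have h' : a.val = n := by rw [h]; rfl
      omega
    · rw [if_neg h]
      have h' : a.val ≠ n := fun e => h (Fin.ext (by rw [e]; rfl))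
      omega
  by_cases h1 : b.val = a.val + 1
  · rw [if_pos h1, if_pos (key.2 (Or.inl h1)), if_neg]
    intro hb
    rw [hb] at h1
    simp at h1
  · rw [if_neg h1]
    by_cases h2 : a.val = n ∧ b.val = 0
    · rw [if_pos h2, if_pos (key.2 (Or.inr h2)), if_pos (Fin.ext h2.2)]
    · rw [if_neg h2, if_neg]
      intro h3
      rcases key.1 h3 with h4 | h4
      · exact h1 h4
      · exact h2 h4

theorem c_ne_zero (b : Fin (n + 1)) : (if b = 0 then (-1 : K) ^ n else 1) ≠ 0 := by
  split_ifs
  · exact pow_ne_zero _ (neg_ne_zero.2 one_ne_zero)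
  · exact one_ne_zero

/-- **generation**: a subgroup containing the root group `X₀₁` and the monomial cycle `w` is everything. -/
theorem eq_top_of_mem (hn : 1 ≤ n) (w : Matrix.SpecialLinearGroup (Fin (n + 1)) K)
    (hw : (w : Matrix (Fin (n + 1)) (Fin (n + 1)) K) =
      Matrix.of (fun i j => if j.val = i.val + 1 then 1 else if i.val = n ∧ j.val = 0 then (-1) ^ n else 0))
    (H : Subgroup (Matrix.SpecialLinearGroup (Fin (n + 1)) K)) (hwH : w ∈ H) (h01 : (0 : Fin (n + 1)) ≠ 1)
    (hX : ∀ a : K, Matrix.SpecialLinearGroup.transvection h01 a ∈ H) : H = ⊤ := by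
  have hconj := fun {i j : Fin (n + 1)} (hij : i ≠ j) (s : K) =>
    conj_of_mono (w_apply w hw) c_ne_zero hij s
  have : Nontrivial (Fin (n + 1)) := ⟨⟨0, 1, h01⟩⟩
  have hne : ∀ i : Fin (n + 1), i ≠ i + 1 := by
    intro i hi
    apply h01
    have : i + 0 = i + 1 := by rw [add_zero]; exact hi
    exact add_left_cancel this
  -- the root groups `X_{i,i+1}`
  have h1 : ∀ k : ℕ, ∀ i : Fin (n + 1), i + (k : Fin (n + 1)) = 0 → ∀ a : K,
      Matrix.SpecialLinearGroup.transvection (hne i) a ∈ H := by
    intro k
    induction k with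
    | zero =>
      intro i hi a
      rw [Nat.cast_zero, add_zero] at hi
      subst hi
      have := hX a
      convert this using 2
      simp
    | succ k ih =>
      intro i hi a
      rw [Nat.cast_succ, add_comm (k : Fin (n + 1)) 1, ← add_assoc] at hi
      have h2 := ih (i + 1) hi ((if i + 1 = 0 then (-1 : K) ^ n else 1)⁻¹ * a * (if i + 1 + 1 = 0 then (-1 : K) ^ n else 1))
      have h3 := hconj (hne (i + 1)) ((if i + 1 = 0 then (-1 : K) ^ n else 1)⁻¹ * a * (if i + 1 + 1 = 0 then (-1 : K) ^ n else 1))
      have h4 := H.mul_mem (H.mul_mem hwH h2) (H.inv_mem hwH)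
      rw [h3] at h4
      convert h4 using 2
      · rw [Equiv.subRight_apply, add_sub_cancel_right]
      · rw [Equiv.subRight_apply, add_sub_cancel_right]
      · have e1 := c_ne_zero (K := K) (i + 1)
        have e2 := c_ne_zero (K := K) (i + 1 + 1)
        rw [← mul_assoc, ← mul_assoc, mul_inv_cancel₀ e1, one_mul, mul_inv_cancel_right₀ e2]
  have h2 : ∀ i : Fin (n + 1), ∀ a : K, Matrix.SpecialLinearGroup.transvection (hne i) a ∈ H := by
    intro i a
    refine h1 ((-i : Fin (n + 1)) : ℕ) i ?_ a
    rw [Fin.cast_val_eq_self]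
    exact add_neg_cancel i
  -- all root groups
  have h3 : ∀ d : ℕ, 1 ≤ d → d ≤ n → ∀ i : Fin (n + 1), ∀ (h : i ≠ i + (d : Fin (n + 1))) (a : K),
      Matrix.SpecialLinearGroup.transvection h a ∈ H := by
    intro d
    induction d with
    | zero => intro h; omega
    | succ d ih =>
      intro _ hd i h a
      by_cases hd0 : d = 0
      · subst hd0
        have := h2 i a
        convert this using 2
      · have hdn : d < n + 1 := by omega
        have hne1 : i ≠ i + (d : Fin (n + 1)) := by
          intro e
          have e1 : i + 0 = i + (d : Fin (n + 1)) := by rw [add_zero]; exact e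
          have e2 := add_left_cancel e1
          have e3 := congrArg Fin.val e2
          rw [Fin.val_natCast, Nat.mod_eq_of_lt hdn] at e3
          simp at e3
          omega
        have h4 := ih (by omega) (by omega) i hne1 a
        have h5 := h2 (i + (d : Fin (n + 1))) 1
        have hik : i ≠ i + (d : Fin (n + 1)) + 1 := by
          intro e
          apply h
          rw [Nat.cast_succ, ← add_assoc]
          exact e
        have h6 := Cfsg.Agent.LieClassical.SLGen.commutator_transvection hik hne1 (hne (i + (d : Fin (n + 1)))) a (1 : K)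
        rw [mul_one] at h6
        have h7 : Matrix.SpecialLinearGroup.transvection hik a ∈ H := by
          rw [← h6, commutatorElement_def]
          exact H.mul_mem (H.mul_mem (H.mul_mem h4 h5) (H.inv_mem h4)) (H.inv_mem h5)
        convert h7 using 2
        rw [Nat.cast_succ, ← add_assoc]
  rw [eq_top_iff, ← Cfsg.Agent.LieClassical.SLGen.closure_transvections, Subgroup.closure_le]
  rintro _ ⟨i, j, hij, c, rfl⟩
  have hj : j = i + (((j - i : Fin (n + 1)) : ℕ) : Fin (n + 1)) := by
    rw [Fin.cast_val_eq_self]
    exact (add_sub_cancel i j).symm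
  have hd1 : 1 ≤ ((j - i : Fin (n + 1)) : ℕ) := by
    rw [Nat.one_le_iff_ne_zero]
    intro e
    apply hij
    have : j - i = 0 := Fin.ext e
    exact (sub_eq_zero.1 this).symm
  have hd2 : ((j - i : Fin (n + 1)) : ℕ) ≤ n := by
    have := (j - i).2
    omega
  have h4 := h3 ((j - i : Fin (n + 1)) : ℕ) hd1 hd2 i (fun e => hij (e.trans hj.symm)) c
  have h5 : Matrix.SpecialLinearGroup.transvection hij c =
      Matrix.SpecialLinearGroup.transvection (fun e => hij (e.trans hj.symm)) c := by
    congr 1
  rw [SetLike.mem_coe, h5]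
  exact h4

end Cfsg.Agent.H135.SLCyc
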