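import Cfsg.Agent.ChevalleyStructure.Elts
import Cfsg.Agent.ChevalleyStructure.Reach
import Cfsg.Agent.S1025
import Cfsg.Agent.S1030
import Cfsg.Agent.S1031
import Cfsg.Agent.S1032
import Cfsg.Agent.S1038
import Cfsg.Agent.H136.TwoGen
import Cfsg.Agent.H136.FieldLem
import Cfsg.Agent.H135.TorusTab
set_option linter.all false

/-!
# Two-generation of the tabulated Chevalley groups: generic part (helper135)

`gen_big` (fields with at least three elements) and `gen_two`, `gen_two'` (the field with two elements) reduce the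
2-generation of `D.group F` to kernel-decidable computations with the tables of `D`: a word `l` in the simple
reflections, a few roots, and a list of closure steps (`run`).
-/

set_option autoImplicit false

namespace Cfsg.Agent.H135.TwoG

open Cfsg.Lie Cfsg.Agent.ChevalleyStructure.Elts

universe u

variable {F : Type u} [Field F] {D : ChevalleyDatum}

/-! ### words in the simple `n`'s -/

/-- the product of the `n_{p_i}`, `i ∈ l` -/
def wG (hD : InList D) (F : Type u) [Field F] (l : List ℕ) : GL D.Idx F :=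
  (l.map fun i => nG hD (D.simple i) 1).prod

/-- the action of the word on the roots -/
def wact (D : ChevalleyDatum) (l : List ℕ) (s : ℕ) : ℕ := l.foldr D.reflectRoot s

theorem wact_lt (hD : InList D) {l : List ℕ} (hl : ∀ i ∈ l, i < D.rank) {s : ℕ} (hs : s < D.nroots) :
    wact D l s < D.nroots := by
  induction l with
  | nil => exact hs
  | cons i l ih =>
    exact Cfsg.Agent.ChevalleyStructure.Reach.reflect_lt hD (hl i List.mem_cons_self)
      (ih fun j hj => hl j (List.mem_cons_of_mem _ hj))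

theorem n_conj (hD : InList D) {i s : ℕ} (hi : i < D.rank) (hs : s < D.nroots) :
    ∃ η : F, (η = 1 ∨ η = -1) ∧
      ∀ t : F, nG hD (D.simple i) 1 * xG hD s t * (nG hD (D.simple i) 1)⁻¹ = xG hD (D.reflectRoot i s) (η * t) := by
  obtain ⟨η, hη, h⟩ := Cfsg.Agent.S1031.result (F := F) D hD i s hi hs
  refine ⟨(η : F), ?_, fun t => ?_⟩
  · rcases hη with rfl | rfl
    · left; simp
    · right; simp
  · rw [mul_inv_eq_iff_eq_mul]
    apply Units.ext
    rw [Units.val_mul, Units.val_mul, coe_nG, coe_xG, coe_xG]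
    exact h t

theorem wG_conj (hD : InList D) {l : List ℕ} (hl : ∀ i ∈ l, i < D.rank) {s : ℕ} (hs : s < D.nroots) :
    ∃ η : F, (η = 1 ∨ η = -1) ∧
      ∀ t : F, wG hD F l * xG hD s t * (wG hD F l)⁻¹ = xG hD (wact D l s) (η * t) := by
  induction l with
  | nil => exact ⟨1, Or.inl rfl, fun t => by simp [wG, wact]⟩
  | cons i l ih =>
    have hl' : ∀ j ∈ l, j < D.rank := fun j hj => hl j (List.mem_cons_of_mem _ hj)
    obtain ⟨η, hη, h⟩ := ih hl'
    obtain ⟨ζ, hζ, h'⟩ := n_conj (F := F) hD (hl i List.mem_cons_self) (wact_lt hD hl' hs)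
    refine ⟨ζ * η, ?_, fun t => ?_⟩
    · rcases hη with rfl | rfl <;> rcases hζ with rfl | rfl <;> simp
    · have e : wG hD F (i :: l) = nG hD (D.simple i) 1 * wG hD F l := by simp [wG]
      rw [e]
      calc nG hD (D.simple i) 1 * wG hD F l * xG hD s t * (nG hD (D.simple i) 1 * wG hD F l)⁻¹
          = nG hD (D.simple i) 1 * (wG hD F l * xG hD s t * (wG hD F l)⁻¹) * (nG hD (D.simple i) 1)⁻¹ := by group
        _ = xG hD (wact D (i :: l) s) (ζ * η * t) := by
          rw [h, h', mul_assoc]; rfl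

theorem wG_mem_group (hD : InList D) (l : List ℕ) : wG hD F l ∈ D.group F :=
  Subgroup.list_prod_mem _ (by
    intro x hx
    rw [List.mem_map] at hx
    obtain ⟨i, -, rfl⟩ := hx
    exact nG_mem_group hD _ _)

theorem wG_mem_monomial (hD : InList D) {l : List ℕ} (hl : ∀ i ∈ l, i < D.rank) :
    wG hD F l ∈ D.monomialSubgroup F :=
  Subgroup.list_prod_mem _ (by
    intro x hx
    rw [List.mem_map] at hx
    obtain ⟨i, hi, rfl⟩ := hx
    exact nG_one_mem_monomial hD (Cfsg.Agent.H135.TorusTab.simple_lt hD i (hl i hi)))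

/-! ### root subgroups in a subgroup `M` -/

/-- `X_r ≤ M` -/
def Has (hD : InList D) (M : Subgroup (GL D.Idx F)) (r : ℕ) : Prop := ∀ t : F, xG hD r t ∈ M

theorem Has.rot {hD : InList D} {M : Subgroup (GL D.Idx F)} {l : List ℕ} (hl : ∀ i ∈ l, i < D.rank)
    (hw : wG hD F l ∈ M) {s : ℕ} (hs : s < D.nroots) (h : Has hD M s) : Has hD M (wact D l s) := by
  obtain ⟨η, hη, h1⟩ := wG_conj (F := F) hD hl hs
  intro t
  have h2 := h1 (η * t)
  have e : η * (η * t) = t := by
    rcases hη with rfl | rfl <;> simp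
  rw [e] at h2
  rw [← h2]
  exact M.mul_mem (M.mul_mem hw (h _)) (M.inv_mem hw)

theorem comm_word (hD : InList D) {r s : ℕ} (hr : r < D.nroots) (hs : s < D.nroots) (hrs : s ≠ r)
    (hneg : s ≠ D.neg r) (t u : F) :
    xG hD s u * xG hD r t = xG hD r t * xG hD s u * wordG hD (D.commWord F r s t u) := by
  apply Units.ext
  rw [Units.val_mul, Units.val_mul, Units.val_mul, coe_wordG, coe_xG, coe_xG]
  exact Cfsg.Agent.S1025.result D hD r s hr hs hrs hneg t u

theorem comm_mem (hD : InList D) {M : Subgroup (GL D.Idx F)} {r s : ℕ} (hr : r < D.nroots) (hs : s < D.nroots)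
    (hrs : s ≠ r) (hneg : s ≠ D.neg r) {t u : F} (h1 : xG hD r t ∈ M) (h2 : xG hD s u ∈ M) :
    wordG hD (D.commWord F r s t u) ∈ M := by
  have h := comm_word (F := F) hD hr hs hrs hneg t u
  have h3 : wordG hD (D.commWord F r s t u) = (xG hD r t * xG hD s u)⁻¹ * (xG hD s u * xG hD r t) := by
    rw [h]; group
  rw [h3]
  exact M.mul_mem (M.inv_mem (M.mul_mem h1 h2)) (M.mul_mem h2 h1)

/-- if all factors of a word but one are known to lie in `M`, so does the remaining one -/
theorem mem_of_filter (hD : InList D) {M : Subgroup (GL D.Idx F)} {P : ℕ → Bool}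
    (hP : ∀ k, P k = true → Has hD M k) (f : ℤ × ℕ × ℕ → F) {e : ℕ × ℤ × ℕ × ℕ} :
    ∀ L : List (ℕ × ℤ × ℕ × ℕ), L.filter (fun c => !P c.1) = [e] →
      wordG hD (L.map fun c => (c.1, f c.2)) ∈ M → xG hD e.1 (f e.2) ∈ M := by
  intro L
  induction L with
  | nil => intro h; simp at h
  | cons c L ih =>
    intro h hw
    rw [List.map_cons, wordG_cons] at hw
    by_cases hc : P c.1 = true
    · rw [List.filter_cons, if_neg (by simp [hc])] at h
      refine ih h ?_
      have := M.mul_mem (M.inv_mem (hP _ hc (f c.2))) hw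
      rwa [inv_mul_cancel_left] at this
    · rw [List.filter_cons, if_pos (by simp [hc])] at h
      obtain ⟨rfl, h2⟩ := List.cons_eq_cons.1 h
      have h3 : wordG hD (L.map fun c => (c.1, f c.2)) ∈ M := by
        apply mem_of_xG_mem
        intro p hp
        rw [List.mem_map] at hp
        obtain ⟨d, hd, rfl⟩ := hp
        refine hP _ ?_ _
        by_contra hcon
        have : d ∈ L.filter (fun c => !P c.1) := List.mem_filter.2 ⟨hd, by simp [hcon]⟩
        rw [h2] at this
        simp at this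
      have := M.mul_mem hw (M.inv_mem h3)
      rwa [mul_inv_cancel_right] at this

/-- the coefficient of the term is `±1` and it is linear in one of the two variables -/
def good (e : ℕ × ℤ × ℕ × ℕ) : Bool := (e.2.1.natAbs == 1) && (e.2.2.1 == 1 || e.2.2.2 == 1)

theorem good_spec {e : ℕ × ℤ × ℕ × ℕ} (h : good e = true) (v : F) :
    ∃ t u : F, (e.2.1 : F) * (-t) ^ e.2.2.1 * u ^ e.2.2.2 = v := by
  simp only [good, Bool.and_eq_true, Bool.or_eq_true, beq_iff_eq] at h
  obtain ⟨h1, h2⟩ := h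
  have hC : (e.2.1 : F) * (e.2.1 : F) = 1 := by
    rcases Int.natAbs_eq e.2.1 with h3 | h3 <;> rw [h3, h1] <;> simp
  rcases h2 with h2 | h2
  · refine ⟨-((e.2.1 : F) * v), 1, ?_⟩
    rw [h2, one_pow, mul_one, pow_one, neg_neg, ← mul_assoc, hC, one_mul]
  · refine ⟨-1, (e.2.1 : F) * v, ?_⟩
    rw [h2, neg_neg, one_pow, mul_one, pow_one, ← mul_assoc, hC, one_mul]

/-- one closure step; `S` is a bit mask of roots; `(r, r)` means: apply the word (acting as `W`) to the root `r`;
`(r, s)` means: the commutator of the root elements of `r` and `s` -/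
def step (D : ChevalleyDatum) (W : ℕ → ℕ) (S : ℕ) (p : ℕ × ℕ) : ℕ :=
  if p.1 = p.2 then
    (if Nat.testBit S p.1 = true ∧ p.1 < D.nroots then S ||| (1 <<< W p.1) else S)
  else if Nat.testBit S p.1 = true ∧ Nat.testBit S p.2 = true ∧ p.1 < D.nroots ∧ p.2 < D.nroots ∧
      p.2 ≠ D.neg p.1 then
    match (D.commTerms p.1 p.2).filter (fun c => !Nat.testBit S c.1) with
    | [e] => if good e = true then S ||| (1 <<< e.1) else S
    | _ => S
  else S

theorem testBit_insert {S j k : ℕ} (h : Nat.testBit (S ||| (1 <<< j)) k = true) : Nat.testBit S k = true ∨ k = j := by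
  rw [Nat.testBit_or, Bool.or_eq_true] at h
  rcases h with h | h
  · exact Or.inl h
  · right
    rw [Nat.one_shiftLeft, Nat.testBit_two_pow] at h
    exact (of_decide_eq_true h).symm

theorem step_sound {hD : InList D} {M : Subgroup (GL D.Idx F)} {l : List ℕ} (hl : ∀ i ∈ l, i < D.rank)
    {W : ℕ → ℕ} (hW : ∀ s < D.nroots, W s = wact D l s)
    (hw : wG hD F l ∈ M) {S : ℕ} (hS : ∀ k, Nat.testBit S k = true → Has hD M k) (p : ℕ × ℕ) :
    ∀ k, Nat.testBit (step D W S p) k = true → Has hD M k := by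
  intro k hk
  unfold step at hk
  split_ifs at hk with h1 h2 h3
  · rcases testBit_insert hk with h | rfl
    · exact hS k h
    · rw [hW _ h2.2]
      exact Has.rot hl hw h2.2 (hS _ h2.1)
  · exact hS k hk
  · obtain ⟨ha, hb, hr, hs, hneg⟩ := h3
    split at hk
    · rename_i e he
      split_ifs at hk with hg
      · rcases testBit_insert hk with h | rfl
        · exact hS k h
        · intro v
          obtain ⟨t, u, rfl⟩ := good_spec (F := F) hg v
          have hm := comm_mem hD hr hs (Ne.symm h1) hneg (t := t) (u := u) (hS _ ha t) (hS _ hb u)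
          exact mem_of_filter hD (P := fun k => Nat.testBit S k) hS
            (fun c : ℤ × ℕ × ℕ => (c.1 : F) * (-t) ^ c.2.1 * u ^ c.2.2) _ he hm
      · exact hS k hk
    · exact hS k hk
  · exact hS k hk

/-- run a list of closure steps -/
def run (D : ChevalleyDatum) (W : ℕ → ℕ) (S : ℕ) (steps : List (ℕ × ℕ)) : ℕ := steps.foldl (step D W) S

theorem run_sound {hD : InList D} {M : Subgroup (GL D.Idx F)} {l : List ℕ} (hl : ∀ i ∈ l, i < D.rank)
    {W : ℕ → ℕ} (hW : ∀ s < D.nroots, W s = wact D l s) (hw : wG hD F l ∈ M) (steps : List (ℕ × ℕ)) : ∀ {S : ℕ} (_ : ∀ k, Nat.testBit S k = true → Has hD M k),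
    ∀ k, Nat.testBit (run D W S steps) k = true → Has hD M k := by
  induction steps with
  | nil => intro S hS; exact hS
  | cons p steps ih =>
    intro S hS
    exact ih (step_sound hl hW hw hS p)

theorem group_le_of_run {hD : InList D} {M : Subgroup (GL D.Idx F)} {l : List ℕ} (hl : ∀ i ∈ l, i < D.rank)
    {W : ℕ → ℕ} (hW : ∀ s < D.nroots, W s = wact D l s) (hw : wG hD F l ∈ M) {S : ℕ} (hS : ∀ k, Nat.testBit S k = true → Has hD M k) {steps : List (ℕ × ℕ)}
    (h : run D W S steps = 2 ^ D.nroots - 1) : D.group F ≤ M := by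
  rw [group_le_iff hD]
  intro r hr
  refine run_sound hl hW hw steps hS r ?_
  rw [h, Nat.testBit_two_pow_sub_one]
  exact decide_eq_true hr

/-- the action of a word, from the packed tables of the library -/
def wT (T : ℕ → ℕ) (l : List ℕ) (s : ℕ) : ℕ :=
  l.foldr (fun i s => Cfsg.Agent.ChevalleyStructure.W0Core.look (T i) s) s

theorem wT_eq (hD : InList D) {T : ℕ → ℕ}
    (hT : ∀ i < D.rank, ∀ s < D.nroots, D.reflectRoot i s = Cfsg.Agent.ChevalleyStructure.W0Core.look (T i) s)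
    {l : List ℕ} (hl : ∀ i ∈ l, i < D.rank) : ∀ s < D.nroots, wT T l s = wact D l s := by
  intro s hs
  induction l with
  | nil => rfl
  | cons i l ih =>
    have hl' : ∀ j ∈ l, j < D.rank := fun j hj => hl j (List.mem_cons_of_mem _ hj)
    have h1 := ih hl'
    show Cfsg.Agent.ChevalleyStructure.W0Core.look (T i) (wT T l s) = D.reflectRoot i (wact D l s)
    rw [h1, hT i (hl i List.mem_cons_self) _ (wact_lt hD hl' hs)]

/-! ### a coprimality argument -/

theorem mem_of_coprime {G : Type*} [Group G] {M : Subgroup G} {h x : G} {N p : ℕ} (hc : Commute h x)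
    (hN : h ^ N = 1) (hp : x ^ p = 1) (hco : Nat.Coprime N p) (hm : h * x ∈ M) : h ∈ M ∧ x ∈ M := by
  have hb : (N : ℤ) * N.gcdA p + p * N.gcdB p = 1 := by
    have := Nat.gcd_eq_gcd_ab N p
    rw [hco.gcd_eq_one] at this
    exact_mod_cast this.symm
  have h1 : (h * x) ^ ((p : ℤ) * N.gcdB p) = h := by
    rw [hc.mul_zpow]
    have e1 : x ^ ((p : ℤ) * N.gcdB p) = 1 := by
      rw [zpow_mul, zpow_natCast, hp, one_zpow]
    have e2 : h ^ ((p : ℤ) * N.gcdB p) = h := by
      have : (p : ℤ) * N.gcdB p = 1 - (N : ℤ) * N.gcdA p := by linarith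
      rw [this, zpow_sub, zpow_one, zpow_mul, zpow_natCast, hN, one_zpow, inv_one, mul_one]
    rw [e1, e2, mul_one]
  have h2 : h ∈ M := h1 ▸ M.zpow_mem hm _
  refine ⟨h2, ?_⟩
  have := M.mul_mem (M.inv_mem h2) hm
  rwa [inv_mul_cancel_left] at this

/-! ### the torus element -/

theorem h_conj (hD : InList D) {i s : ℕ} (hi : i < D.rank) (hs : s < D.nroots) {c : F} (hc : c ≠ 0) (t : F) :
    hG hD (D.simple i) c * xG hD s t * (hG hD (D.simple i) c)⁻¹ = xG hD s (c ^ (D.cartan i s) * t) := by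
  rw [mul_inv_eq_iff_eq_mul]
  apply Units.ext
  rw [Units.val_mul, Units.val_mul, coe_hG, coe_xG, coe_xG]
  exact Cfsg.Agent.S1032.result D hD i s hi hs c hc t

theorem hG_eq_hh (hD : InList D) {i : ℕ} (hi : i < D.rank) (c : Fˣ) :
    hG hD (D.simple i) (c : F) = Cfsg.Agent.H135.TorusTab.hh D F ⟨i, hi⟩ c := by
  apply Units.ext
  rw [coe_hG, Cfsg.Agent.H135.TorusTab.coe_hh hD]

theorem diag_comm (hD : InList D) {x y : GL D.Idx F} (hx : x ∈ D.diagonalSubgroup F)
    (hy : y ∈ D.diagonalSubgroup F) : x * y = y * x := by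
  rw [Cfsg.Agent.H135.TorusTab.range_eq hD] at hx hy
  obtain ⟨a, rfl⟩ := hx
  obtain ⟨b, rfl⟩ := hy
  rw [← map_mul, ← map_mul, mul_comm]

theorem diag_conj (hD : InList D) {n x : GL D.Idx F} (hn : n ∈ D.monomialSubgroup F)
    (hx : x ∈ D.diagonalSubgroup F) : n * x * n⁻¹ ∈ D.diagonalSubgroup F := by
  have h := Cfsg.Agent.S1038.result (F := F) D hD
  have h1 := h.conj_mem ⟨x, diagonal_le_monomial D F hx⟩ (Subgroup.mem_subgroupOf.2 hx) ⟨n, hn⟩
  exact Subgroup.mem_subgroupOf.1 h1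

/-- the root subgroup, as the set of its elements -/
theorem mem_root {hD : InList D} {r : ℕ} {g : GL D.Idx F} :
    g ∈ D.rootSubgroup F r ↔ ∃ t : F, g = xG hD r t := mem_rootSubgroup_iff hD r g

/-- a subgroup of `M` meeting -/
def coeffs (hD : InList D) (M : Subgroup (GL D.Idx F)) (r : ℕ) : AddSubgroup F where
  carrier := {t | xG hD r t ∈ M}
  zero_mem' := by
    show xG hD r 0 ∈ M
    rw [xG_zero]; exact M.one_mem
  add_mem' := by
    intro a b ha hb
    show xG hD r (a + b) ∈ M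
    rw [← xG_add]; exact M.mul_mem ha hb
  neg_mem' := by
    intro a ha
    show xG hD r (-a) ∈ M
    rw [← xG_inv]; exact M.inv_mem ha

theorem mem_coeffs {hD : InList D} {M : Subgroup (GL D.Idx F)} {r : ℕ} {t : F} :
    t ∈ coeffs hD M r ↔ xG hD r t ∈ M := Iff.rfl

/-- a subgroup normalised by `h_p(k)`, `k` a generator, meets `X_r` in `1` or `X_r`, if the Cartan integer is `1` or
`2` -/
theorem coeffs_bot_or_top [Finite F] (hD : InList D) {k : Fˣ} (hk : ∀ x : Fˣ, x ∈ Subgroup.zpowers k) {i r : ℕ}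
    (hi : i < D.rank) (hr : r < D.nroots) (hc : D.cartan i r = 1 ∨ D.cartan i r = 2)
    {Y : Subgroup (GL D.Idx F)}
    (hY : ∀ y ∈ Y, (∃ t : F, y = xG hD r t) → hG hD (D.simple i) (k : F) * y * (hG hD (D.simple i) (k : F))⁻¹ ∈ Y) :
    coeffs hD Y r = ⊥ ∨ coeffs hD Y r = ⊤ := by
  apply Cfsg.Agent.H136.FieldLem.eq_bot_or_top hk
  intro a ha
  have h1 : ∀ a ∈ coeffs hD Y r, (k : F) ^ (D.cartan i r) * a ∈ coeffs hD Y r := by
    intro a ha
    have := hY _ ha ⟨a, rfl⟩
    rwa [h_conj hD hi hr k.ne_zero] at this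
  rcases hc with hc | hc
  · have h2 := h1 _ (h1 _ ha)
    rw [hc, zpow_one, ← mul_assoc, ← pow_two] at h2
    exact h2
  · have h2 := h1 _ ha
    rw [hc] at h2
    exact_mod_cast h2

theorem sq_one {x : F} (h : x = 1 ∨ x = -1) : x * x = 1 := by
  rcases h with rfl | rfl <;> simp

theorem gen_big [Finite F] (hD : InList D) (hq : ∃ x : F, x ≠ 0 ∧ x ≠ 1) {l : List ℕ} (hl : ∀ i ∈ l, i < D.rank)
    {W : ℕ → ℕ} (hW : ∀ s < D.nroots, W s = wact D l s) {i a b a' b' : ℕ} (hi : i < D.rank) (ha : a < D.nroots) (hb : b < D.nroots) (ha' : a' < D.nroots)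
    (hb' : b' < D.nroots) (h1 : W a' = a) (h2 : W b' = b) (c1 : D.cartan i a = 1)
    (c2 : D.cartan i a' = 1 ∨ D.cartan i a' = -1) (c3 : D.cartan i b = 0)
    (c4 : D.cartan i b' = 1 ∨ D.cartan i b' = 2) {steps : List (ℕ × ℕ)}
    (hrun : run D W ((1 <<< a) ||| (1 <<< b')) steps = 2 ^ D.nroots - 1) :
    ∃ g h : GL D.Idx F, g ∈ D.group F ∧ h ∈ D.group F ∧ D.group F ≤ Subgroup.closure {g, h} := by
  classical
  obtain ⟨k, hk⟩ := IsCyclic.exists_generator (α := Fˣ)
  have hk1 : (k : F) ≠ 1 := by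
    intro h0
    obtain ⟨x, hx0, hx1⟩ := hq
    have hk' : k = 1 := Units.ext h0
    obtain ⟨n, hn⟩ := hk (Units.mk0 x hx0)
    have hn' : k ^ n = Units.mk0 x hx0 := hn
    rw [hk', one_zpow] at hn'
    have := congrArg Units.val hn'
    exact hx1 this.symm
  set h0 := hG hD (D.simple i) (k : F) with hh0
  set w := wG hD F l with hw
  set g1 := h0 * xG hD b 1 with hg1
  set g2 := xG hD a 1 * w with hg2
  refine ⟨g1, g2, ?_, ?_, ?_⟩
  · exact Subgroup.mul_mem _ (hG_mem_group hD _ _) (xG_mem_group hD _ _)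
  · exact Subgroup.mul_mem _ (xG_mem_group hD _ _) (wG_mem_group hD _)
  set M := Subgroup.closure {g1, g2} with hM
  have m1 : g1 ∈ M := Subgroup.subset_closure (by simp)
  have m2 : g2 ∈ M := Subgroup.subset_closure (by simp)
  -- step 1: `h0 ∈ M` and `x_b(1) ∈ M`
  have hcb : Commute h0 (xG hD b 1) := by
    have h := h_conj (F := F) hD hi hb k.ne_zero 1
    rw [c3, zpow_zero, one_mul] at h
    exact mul_inv_eq_iff_eq_mul.1 h
  have hN : h0 ^ Nat.card Fˣ = 1 := by
    rw [hh0, hG_eq_hh hD hi, ← map_pow, pow_card_eq_one', map_one]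
  obtain ⟨p, hp⟩ := CharP.exists F
  have hpp : Nat.Prime p := by
    have := hp
    exact (CharP.char_is_prime_or_zero F p).resolve_right (CharP.char_ne_zero_of_finite F p)
  have hxp : (xG hD b (1 : F)) ^ p = 1 := by
    have h : ∀ n : ℕ, (xG hD b (1 : F)) ^ n = xG hD b (n : F) := by
      intro n
      induction n with
      | zero => rw [pow_zero, Nat.cast_zero, xG_zero]
      | succ n ih => rw [pow_succ, ih, xG_add, Nat.cast_succ]
    rw [h, CharP.cast_eq_zero, xG_zero]
  have hco : Nat.Coprime (Nat.card Fˣ) p := by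
    have : Fintype F := Fintype.ofFinite F
    rw [Nat.card_units, Nat.card_eq_fintype_card]
    have h3 : p ∣ Fintype.card F := by
      have := hp
      exact (CharP.cast_eq_zero_iff F p _).1 (Nat.cast_card_eq_zero F)
    have h4 : 0 < Fintype.card F := Fintype.card_pos
    refine Nat.Coprime.symm ((Nat.Prime.coprime_iff_not_dvd hpp).2 fun h5 => ?_)
    have h6 : p ∣ 1 := by
      have := Nat.dvd_sub h3 h5
      have e : Fintype.card F - (Fintype.card F - 1) = 1 := by omega
      rwa [e] at this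
    exact hpp.one_lt.ne' (Nat.dvd_one.1 h6)
  obtain ⟨hhM, hbM⟩ := mem_of_coprime hcb hN hxp hco m1
  -- step 2: the torus trick
  have hwN : w ∈ D.monomialSubgroup F := wG_mem_monomial hD hl
  have hh0d : h0 ∈ D.diagonalSubgroup F :=
    hG_mem_diagonal hD (Cfsg.Agent.H135.TorusTab.simple_lt hD i hi) k.ne_zero
  obtain ⟨η, hη, hwc0⟩ := wG_conj (F := F) hD hl ha'
  have hwc : ∀ t : F, w * xG hD a' t * w⁻¹ = xG hD a (η * t) := by
    intro t
    rw [hw, hwc0, ← hW a' ha', h1]
  have hη2 : η * η = 1 := sq_one hη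
  have hwc' : ∀ t : F, w⁻¹ * xG hD a t * w = xG hD a' (η * t) := by
    intro t
    have h := hwc (η * t)
    rw [← mul_assoc, hη2, one_mul] at h
    rw [← h]; group
  have hw1 : ∀ t : F, (w * h0 * w⁻¹) * xG hD a t * (w * h0 * w⁻¹)⁻¹ = xG hD a ((k : F) ^ (D.cartan i a') * t) := by
    intro t
    calc (w * h0 * w⁻¹) * xG hD a t * (w * h0 * w⁻¹)⁻¹ = w * (h0 * (w⁻¹ * xG hD a t * w) * h0⁻¹) * w⁻¹ := by group
      _ = _ := by
        rw [hwc', h_conj hD hi ha' k.ne_zero, hwc]
        congr 1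
        calc η * ((k : F) ^ D.cartan i a' * (η * t)) = (η * η) * ((k : F) ^ D.cartan i a' * t) := by ring
          _ = _ := by rw [hη2, one_mul]
  have hw2 : ∀ t : F, (w * h0 * w⁻¹)⁻¹ * xG hD a t * (w * h0 * w⁻¹) = xG hD a (((k : F) ^ (D.cartan i a'))⁻¹ * t) := by
    intro t
    have h := hw1 (((k : F) ^ (D.cartan i a'))⁻¹ * t)
    rw [mul_inv_cancel_left₀ (zpow_ne_zero _ k.ne_zero)] at h
    rw [← h]; group
  have hne1 : (k : F) ^ (D.cartan i a') ≠ 1 := by
    rcases c2 with c2 | c2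
    · rw [c2, zpow_one]; exact hk1
    · rw [c2, zpow_neg, zpow_one]
      exact fun h => hk1 (inv_eq_one.1 h)
  have hX : D.rootSubgroup F a ≤ M ∧ w ∈ M := by
    refine Cfsg.Agent.H136.TwoGen.torus_trick M (D.rootSubgroup F a) (h := h0) (w := w) (u := xG hD a 1) hhM m2
      (xG_mem_rootSubgroup hD _ _) ?_ ?_ ?_ ?_ ?_ ?_ ?_
    · intro x hx
      obtain ⟨t, rfl⟩ := (mem_rootSubgroup_iff hD a x).1 hx
      rw [hw1]
      exact xG_mem_rootSubgroup hD _ _
    · intro x hx
      obtain ⟨t, rfl⟩ := (mem_rootSubgroup_iff hD a x).1 hx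
      rw [hw2]
      exact xG_mem_rootSubgroup hD _ _
    · intro Y hYX hY
      rcases coeffs_bot_or_top hD hk hi ha (Or.inl c1) (Y := Y) (fun y hy _ => hY y hy) with h | h
      · left
        rw [eq_bot_iff]
        intro y hy
        obtain ⟨t, rfl⟩ := (mem_rootSubgroup_iff hD a y).1 (hYX hy)
        have : t ∈ coeffs hD Y a := hy
        rw [h, AddSubgroup.mem_bot] at this
        rw [this, xG_zero]
        exact Subgroup.mem_bot.2 rfl
      · right
        refine le_antisymm hYX ?_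
        intro y hy
        obtain ⟨t, rfl⟩ := (mem_rootSubgroup_iff hD a y).1 hy
        have : t ∈ coeffs hD Y a := by rw [h]; exact AddSubgroup.mem_top t
        exact this
    · refine ⟨xG hD a 1, xG_mem_rootSubgroup hD _ _, fun h => ?_⟩
      have h3 := h_conj (F := F) hD hi ha k.ne_zero 1
      rw [← hh0, h, mul_inv_cancel_right, c1, zpow_one, mul_one] at h3
      exact hk1 (xG_injective hD ha h3).symm
    · intro x hx
      obtain ⟨t, rfl⟩ := (mem_rootSubgroup_iff hD a x).1 hx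
      rw [hh0, h_conj hD hi ha k.ne_zero]
      exact xG_mem_rootSubgroup hD _ _
    · exact diag_comm hD hh0d (diag_conj hD hwN hh0d)
    · intro h
      have h3 := hw1 1
      rw [h, mul_inv_cancel_right, mul_one] at h3
      exact hne1 (xG_injective hD ha h3).symm
  obtain ⟨hXM, hwM⟩ := hX
  have hasA : Has hD M a := fun t => hXM (xG_mem_rootSubgroup hD _ _)
  -- step 3: the second root subgroup
  have hasB : Has hD M b' := by
    obtain ⟨ζ, hζ, hz⟩ := wG_conj (F := F) hD hl hb'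
    have hζ2 : ζ * ζ = 1 := sq_one hζ
    have hz1 : w * xG hD b' ζ * w⁻¹ = xG hD b 1 := by
      rw [hw, hz, ← hW b' hb', h2, hζ2]
    have hm : xG hD b' ζ ∈ M := by
      have e : xG hD b' ζ = w⁻¹ * xG hD b 1 * w := by
        rw [← hz1]; group
      rw [e]
      exact M.mul_mem (M.mul_mem (M.inv_mem hwM) hbM) hwM
    rcases coeffs_bot_or_top hD hk hi hb' c4 (Y := M)
      (fun y hy _ => M.mul_mem (M.mul_mem hhM hy) (M.inv_mem hhM)) with h | h
    · exfalso
      have : ζ ∈ coeffs hD M b' := hm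
      rw [h, AddSubgroup.mem_bot] at this
      rw [this, mul_zero] at hζ2
      exact zero_ne_one hζ2
    · intro t
      have : t ∈ coeffs hD M b' := by rw [h]; exact AddSubgroup.mem_top t
      exact this
  refine group_le_of_run hl hW hwM (S := (1 <<< a) ||| (1 <<< b')) ?_ hrun
  intro k hk
  rcases testBit_insert hk with h | rfl
  · rw [Nat.one_shiftLeft, Nat.testBit_two_pow] at h
    have : a = k := by simpa using h
    exact this ▸ hasA
  · exact hasB

/-! ### the field with two elements -/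

theorem has_of_one {hD : InList D} (hF : ∀ x : F, x = 0 ∨ x = 1) {M : Subgroup (GL D.Idx F)} {r : ℕ}
    (h : xG hD r 1 ∈ M) : Has hD M r := by
  intro t
  rcases hF t with rfl | rfl
  · rw [xG_zero]; exact M.one_mem
  · exact h

theorem gen_two (hD : InList D) (hF : ∀ x : F, x = 0 ∨ x = 1) {l : List ℕ} (hl : ∀ i ∈ l, i < D.rank)
    {W : ℕ → ℕ} (hW : ∀ s < D.nroots, W s = wact D l s) {a : ℕ} {steps : List (ℕ × ℕ)} (hrun : run D W (1 <<< a) steps = 2 ^ D.nroots - 1) :
    ∃ g h : GL D.Idx F, g ∈ D.group F ∧ h ∈ D.group F ∧ D.group F ≤ Subgroup.closure {g, h} := by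
  refine ⟨xG hD a 1, wG hD F l, xG_mem_group hD _ _, wG_mem_group hD _, ?_⟩
  have m2 : wG hD F l ∈ Subgroup.closure {xG hD a 1, wG hD F l} := Subgroup.subset_closure (by simp)
  refine group_le_of_run (hD := hD) hl hW m2 (S := 1 <<< a) ?_ hrun
  intro k hk
  rw [Nat.one_shiftLeft, Nat.testBit_two_pow] at hk
  have : a = k := by simpa using hk
  exact this ▸ has_of_one hF (Subgroup.subset_closure (by simp))

theorem commute_of_terms (hD : InList D) {r s : ℕ} (hr : r < D.nroots) (hs : s < D.nroots) (hrs : s ≠ r)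
    (hneg : s ≠ D.neg r) (h : D.commTerms r s = []) (t u : F) : xG hD s u * xG hD r t = xG hD r t * xG hD s u := by
  have h1 := comm_word (F := F) hD hr hs hrs hneg t u
  have h2 : D.commWord F r s t u = [] := by
    show (D.commTerms r s).map _ = _
    rw [h]; rfl
  rwa [h2, wordG_nil, mul_one] at h1

theorem sl2_pow [CharP F 2] {g h : Matrix.SpecialLinearGroup (Fin 2) F}
    (hg : (g : Matrix (Fin 2) (Fin 2) F) = !![1, 0; 1, 1]) (hh : (h : Matrix (Fin 2) (Fin 2) F) = !![1, 1; 0, 1]) :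
    (g * h) ^ 3 = 1 := by
  have h2 : (1 : F) + 1 = 0 := by
    have := CharP.cast_eq_zero F 2
    rw [← one_add_one_eq_two] at this
    exact_mod_cast this
  apply Subtype.ext
  show ((g * h) ^ 3 : Matrix.SpecialLinearGroup (Fin 2) F).1 = 1
  rw [Matrix.SpecialLinearGroup.coe_pow, Matrix.SpecialLinearGroup.coe_mul, hg, hh]
  have e : (!![1, 0; 1, 1] * !![1, 1; 0, 1] : Matrix (Fin 2) (Fin 2) F) = !![1, 1; 1, 0] := by
    ext i j
    fin_cases i <;> fin_cases j <;> simp [Matrix.mul_apply, Fin.sum_univ_two, h2]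
  rw [e, pow_succ, pow_two]
  ext i j
  fin_cases i <;> fin_cases j <;> simp [Matrix.mul_apply, Fin.sum_univ_two, h2]

/-- `x_{-b}(1) x_b(1)` has order dividing `3` -/
theorem sig_pow [CharP F 2] (hD : InList D) {b : ℕ} (hb : b < D.nroots) :
    (xG hD (D.neg b) (1 : F) * xG hD b 1) ^ 3 = 1 := by
  obtain ⟨φ, -, h⟩ := Cfsg.Agent.S1030.result (F := F) D hD b hb
  let g : Matrix.SpecialLinearGroup (Fin 2) F := ⟨!![1, 0; 1, 1], by simp [Matrix.det_fin_two_of]⟩
  let g' : Matrix.SpecialLinearGroup (Fin 2) F := ⟨!![1, 1; 0, 1], by simp [Matrix.det_fin_two_of]⟩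
  have h1 : φ g = xG hD (D.neg b) 1 := Units.ext ((h g 1).2 rfl)
  have h2 : φ g' = xG hD b 1 := Units.ext ((h g' 1).1 rfl)
  rw [← h1, ← h2, ← map_mul, ← map_pow, sl2_pow (g := g) (h := g') rfl rfl, map_one]

theorem gen_two' [CharP F 2] (hD : InList D) (hF : ∀ x : F, x = 0 ∨ x = 1) {l : List ℕ}
    (hl : ∀ i ∈ l, i < D.rank) {W : ℕ → ℕ} (hW : ∀ s < D.nroots, W s = wact D l s) {a b c : ℕ} (ha : a < D.nroots) (hb : b < D.nroots) (hb' : D.neg b < D.nroots)
    (hc : c < D.nroots) (hab : b ≠ a ∧ b ≠ D.neg a ∧ D.commTerms a b = [])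
    (hab' : D.neg b ≠ a ∧ D.neg b ≠ D.neg a ∧ D.commTerms a (D.neg b) = [])
    (hcb' : D.neg b ≠ c ∧ D.neg b ≠ D.neg c ∧ D.commTerms c (D.neg b) = [])
    (hcb : c ≠ b ∧ c ≠ D.neg b)
    {steps₁ steps₂ : List (ℕ × ℕ)} {S : ℕ} (h1 : run D W (1 <<< a) steps₁ = S) (hcS : S.testBit c = true)
    {e : ℕ × ℤ × ℕ × ℕ} (he : (D.commTerms b c).filter (fun c => !Nat.testBit S c.1) = [e]) (hg : e.2.1.natAbs = 1)
    (hrun : run D W (S ||| (1 <<< e.1)) steps₂ = 2 ^ D.nroots - 1) :
    ∃ g h : GL D.Idx F, g ∈ D.group F ∧ h ∈ D.group F ∧ D.group F ≤ Subgroup.closure {g, h} := by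
  set s := xG hD (D.neg b) (1 : F) * xG hD b 1 with hs
  set g1 := xG hD a (1 : F) * s with hg1
  refine ⟨g1, wG hD F l, ?_, wG_mem_group hD _, ?_⟩
  · exact Subgroup.mul_mem _ (xG_mem_group hD _ _) (Subgroup.mul_mem _ (xG_mem_group hD _ _) (xG_mem_group hD _ _))
  set M := Subgroup.closure {g1, wG hD F l} with hM
  have m1 : g1 ∈ M := Subgroup.subset_closure (by simp)
  have m2 : wG hD F l ∈ M := Subgroup.subset_closure (by simp)
  have hcomm : Commute (xG hD a (1 : F)) s := by
    have e1 := commute_of_terms (F := F) hD ha hb hab.1 hab.2.1 hab.2.2 1 1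
    have e2 := commute_of_terms (F := F) hD ha hb' hab'.1 hab'.2.1 hab'.2.2 1 1
    exact (Commute.mul_right (show Commute _ _ from e2.symm) (show Commute _ _ from e1.symm))
  have hx2 : (xG hD a (1 : F)) ^ 2 = 1 := by
    rw [pow_two, xG_add]
    have h2 : (1 : F) + 1 = 0 := by
      have := CharP.cast_eq_zero F 2
      rw [← one_add_one_eq_two] at this
      exact_mod_cast this
    rw [h2, xG_zero]
  obtain ⟨hxa, hsM⟩ := mem_of_coprime hcomm hx2 (sig_pow hD hb) (by norm_num) m1
  have hS1 : ∀ k, Nat.testBit S k = true → Has hD M k := by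
    rw [← h1]
    apply run_sound hl hW m2
    intro k hk
    rw [Nat.one_shiftLeft, Nat.testBit_two_pow] at hk
    have : a = k := by simpa using hk
    exact this ▸ has_of_one hF hxa
  have hxc : xG hD c (1 : F) ∈ M := hS1 c hcS 1
  -- the commutator of `x_b(1)` and `x_c(1)`
  have hWd : wordG hD (D.commWord F b c 1 1) ∈ M := by
    have e1 := comm_word (F := F) hD hb hc hcb.1 hcb.2 1 1
    have e2 := commute_of_terms (F := F) hD hc hb' hcb'.1 hcb'.2.1 hcb'.2.2 1 1
    have e3 : s⁻¹ * xG hD c 1 * s = xG hD c 1 * wordG hD (D.commWord F b c 1 1) := by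
      rw [hs]
      calc (xG hD (D.neg b) (1 : F) * xG hD b 1)⁻¹ * xG hD c 1 * (xG hD (D.neg b) 1 * xG hD b 1)
          = (xG hD b 1)⁻¹ * (xG hD (D.neg b) 1)⁻¹ * (xG hD c 1 * xG hD (D.neg b) 1) * xG hD b 1 := by group
        _ = (xG hD b 1)⁻¹ * (xG hD c 1 * xG hD b 1) := by rw [← e2]; group
        _ = _ := by rw [e1]; group
    have e4 : wordG hD (D.commWord F b c 1 1) = (xG hD c 1)⁻¹ * (s⁻¹ * xG hD c 1 * s) := by
      rw [e3]; group
    rw [e4]
    exact M.mul_mem (M.inv_mem hxc) (M.mul_mem (M.mul_mem (M.inv_mem hsM) hxc) hsM)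
  have hxe : Has hD M e.1 := by
    have h2 := mem_of_filter hD (P := fun k => Nat.testBit S k) hS1
      (fun c : ℤ × ℕ × ℕ => (c.1 : F) * (-1) ^ c.2.1 * 1 ^ c.2.2) _ he hWd
    have h3 : (e.2.1 : F) * (-1) ^ e.2.2.1 * 1 ^ e.2.2.2 ≠ 0 := by
      rw [one_pow, mul_one]
      refine mul_ne_zero ?_ (pow_ne_zero _ (neg_ne_zero.2 one_ne_zero))
      rcases Int.natAbs_eq e.2.1 with h3 | h3 <;> rw [h3, hg] <;> simp
    refine has_of_one hF ?_
    rwa [(hF _).resolve_left h3] at h2
  refine group_le_of_run hl hW m2 (S := S ||| (1 <<< e.1)) ?_ hrun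
  intro k hk
  rcases testBit_insert hk with h | rfl
  · exact hS1 k h
  · exact hxe

end Cfsg.Agent.H135.TwoG
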